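import Cfsg.Agent.Lib.Helper17.E8I.DefsE

set_option autoImplicit false

namespace Cfsg.Agent.Lib.Helper71.E8I

open Cfsg.Lie Cfsg.Agent.Lib.Helper18 Cfsg.Agent.Lib.Helper17 Cfsg.Agent.Lib.Helper36
  Cfsg.Agent.Lib.Helper6 Matrix Cfsg.Agent.Lib.Helper17.E8I

variable {F : Type*} [Field F] (hB : Base chevE8 F)

theorem F2_tab1_c0 : ∀ r : Fin 240, r.val < 150 → ∀ s : Fin 240, (e8add r s).all (fun k => decide (r.val < k ∧ s.val < k ∧ k < 240)) = true := by
  decide +kernel

theorem F2_tab1_c1 : ∀ r : Fin 240, 150 ≤ r.val → r.val < 180 → ∀ s : Fin 240, (e8add r s).all (fun k => decide (r.val < k ∧ s.val < k ∧ k < 240)) = true := by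
  decide +kernel

theorem F2_tab1_c2 : ∀ r : Fin 240, 180 ≤ r.val → r.val < 210 → ∀ s : Fin 240, (e8add r s).all (fun k => decide (r.val < k ∧ s.val < k ∧ k < 240)) = true := by
  decide +kernel

theorem F2_tab1_c3 : ∀ r : Fin 240, 210 ≤ r.val → ∀ s : Fin 240, (e8add r s).all (fun k => decide (r.val < k ∧ s.val < k ∧ k < 240)) = true := by
  decide +kernel

theorem F2_tab1 : ∀ r s : Fin 240, (e8add r s).all (fun k => decide (r.val < k ∧ s.val < k ∧ k < 240)) = true := by
  intro r s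
  rcases lt_or_ge r.val 150 with h0 | h0
  · exact F2_tab1_c0 r h0 s
  rcases lt_or_ge r.val 180 with h1 | h1
  · exact F2_tab1_c1 r h0 h1 s
  rcases lt_or_ge r.val 210 with h2 | h2
  · exact F2_tab1_c2 r h1 h2 s
  exact F2_tab1_c3 r h2 s

theorem F2_bd {r s k : ℕ} (h : e8add r s = some k) : r < 240 ∧ s < 240 := by
  unfold e8add at h
  split_ifs at h with h1
  exact ⟨h1.2.1, h1.2.2.2⟩

/-- [E2] tables -/
theorem e8_add_lt (r s k : ℕ) (h : e8add r s = some k) : r < k ∧ s < k ∧ k < 240 := by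
  obtain ⟨hr, hs⟩ := F2_bd h
  have h1 := F2_tab1 ⟨r, hr⟩ ⟨s, hs⟩
  simp only [h, Option.all_some, decide_eq_true_eq] at h1
  exact h1

theorem F2_tab2_c0 : ∀ r : Fin 240, r.val < 140 → ∀ s : Fin 240, e8add r s = e8add s r := by
  decide +kernel

theorem F2_tab2_c1 : ∀ r : Fin 240, 140 ≤ r.val → r.val < 160 → ∀ s : Fin 240, e8add r s = e8add s r := by
  decide +kernel

theorem F2_tab2_c2 : ∀ r : Fin 240, 160 ≤ r.val → r.val < 180 → ∀ s : Fin 240, e8add r s = e8add s r := by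
  decide +kernel

theorem F2_tab2_c3 : ∀ r : Fin 240, 180 ≤ r.val → r.val < 200 → ∀ s : Fin 240, e8add r s = e8add s r := by
  decide +kernel

theorem F2_tab2_c4 : ∀ r : Fin 240, 200 ≤ r.val → r.val < 220 → ∀ s : Fin 240, e8add r s = e8add s r := by
  decide +kernel

theorem F2_tab2_c5 : ∀ r : Fin 240, 220 ≤ r.val → ∀ s : Fin 240, e8add r s = e8add s r := by
  decide +kernel

theorem F2_tab2 : ∀ r s : Fin 240, e8add r s = e8add s r := by
  intro r s
  rcases lt_or_ge r.val 140 with h0 | h0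
  · exact F2_tab2_c0 r h0 s
  rcases lt_or_ge r.val 160 with h1 | h1
  · exact F2_tab2_c1 r h0 h1 s
  rcases lt_or_ge r.val 180 with h2 | h2
  · exact F2_tab2_c2 r h1 h2 s
  rcases lt_or_ge r.val 200 with h3 | h3
  · exact F2_tab2_c3 r h2 h3 s
  rcases lt_or_ge r.val 220 with h4 | h4
  · exact F2_tab2_c4 r h3 h4 s
  exact F2_tab2_c5 r h4 s

theorem e8_add_symm (r s : ℕ) : e8add r s = e8add s r := by
  by_cases h : r < 240 ∧ s < 240
  · exact F2_tab2 ⟨r, h.1⟩ ⟨s, h.2⟩
  · unfold e8add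
    rw [if_neg (by tauto), if_neg (by tauto)]

theorem F2_tab3_c0 : ∀ s : Fin 240, s.val < 150 → ((List.range 240).filterMap (fun r => e8add s r)).Pairwise (· < ·) := by
  decide +kernel

theorem F2_tab3_c1 : ∀ s : Fin 240, 150 ≤ s.val → s.val < 180 → ((List.range 240).filterMap (fun r => e8add s r)).Pairwise (· < ·) := by
  decide +kernel

theorem F2_tab3_c2 : ∀ s : Fin 240, 180 ≤ s.val → s.val < 210 → ((List.range 240).filterMap (fun r => e8add s r)).Pairwise (· < ·) := by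
  decide +kernel

theorem F2_tab3_c3 : ∀ s : Fin 240, 210 ≤ s.val → ((List.range 240).filterMap (fun r => e8add s r)).Pairwise (· < ·) := by
  decide +kernel

theorem F2_tab3 : ∀ s : Fin 240, ((List.range 240).filterMap (fun r => e8add s r)).Pairwise (· < ·) := by
  intro s
  rcases lt_or_ge s.val 150 with h0 | h0
  · exact F2_tab3_c0 s h0
  rcases lt_or_ge s.val 180 with h1 | h1
  · exact F2_tab3_c1 s h0 h1
  rcases lt_or_ge s.val 210 with h2 | h2
  · exact F2_tab3_c2 s h1 h2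
  exact F2_tab3_c3 s h2

theorem e8_add_mono (s r r' k k' : ℕ) (h : e8add s r = some k) (h' : e8add s r' = some k')
    (hlt : r < r') : k < k' := by
  obtain ⟨hs, hr⟩ := F2_bd h
  obtain ⟨-, hr'⟩ := F2_bd h'
  have h1 := F2_tab3 ⟨s, hs⟩
  rw [List.pairwise_filterMap, List.pairwise_iff_getElem] at h1
  have h2 := h1 r r' (by simpa using hr) (by simpa using hr') hlt
  simp only [List.getElem_range] at h2
  exact h2 k h k' h'

end Cfsg.Agent.Lib.Helper71.E8I
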